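import Groth.Prelude.Def_W4c6katofiltaWFil
import Mathlib.FieldTheory.PerfectClosure
import Mathlib.RingTheory.WittVector.Identities
import Mathlib.RingTheory.Localization.Away.Basic
import Mathlib.RingTheory.UniqueFactorizationDomain.Basic
import Mathlib.Algebra.MvPolynomial.Counit
import Mathlib.Tactic.Ring

/-!
# Filtered pieces of truncated Witt vectors
-/

namespace Groth.Agent.WittFilLib

open WittVector

universe u v

variable {p : ℕ} [hp : Fact p.Prime]

/-- Multiplication by a Teichmüller representative scales the coordinates. -/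
theorem mul_teichmuller_coeff {R : Type u} [CommRing R] (x : WittVector p R) (r : R) (n : ℕ) :
    (x * teichmuller p r).coeff n = x.coeff n * r ^ p ^ n := by
  suffices h : x * teichmuller p r = WittVector.mk p fun n => x.coeff n * r ^ p ^ n by rw [h, coeff_mk]
  have aux : ∀ {S : Type u} [CommRing S] (x : WittVector p (MvPolynomial S ℤ)) (r : MvPolynomial S ℤ),
      x * teichmuller p r = WittVector.mk p fun n => x.coeff n * r ^ p ^ n := by
    intro S _ x r
    refine map_injective (MvPolynomial.map (Int.castRingHom ℚ))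
      (MvPolynomial.map_injective _ Int.cast_injective) ?_
    apply (ghostMap.bijective_of_invertible p (MvPolynomial S ℚ)).1
    rw [map_mul, map_mul, map_teichmuller]
    ext1 k
    simp only [Pi.mul_apply, ghostMap_apply, ghostComponent_teichmuller]
    rw [ghostComponent_apply, ghostComponent_apply, aeval_wittPolynomial, aeval_wittPolynomial,
      Finset.sum_mul]
    refine Finset.sum_congr rfl fun i hi => ?_
    simp only [map_coeff, coeff_mk, map_mul, map_pow, mul_pow, ← pow_mul]
    rw [← pow_add, Nat.add_sub_cancel' (Nat.lt_succ_iff.1 (Finset.mem_range.1 hi)), mul_assoc]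
  obtain ⟨r', rfl⟩ := MvPolynomial.counit_surjective R r
  obtain ⟨x', rfl⟩ := WittVector.map_surjective _ (MvPolynomial.counit_surjective R) x
  rw [← map_teichmuller, ← map_mul, aux]
  ext k
  simp [map_coeff]

theorem trunc_mul_teichmuller_coeff {R : Type u} [CommRing R] {m : ℕ} (a : TruncatedWittVector p m R) (r : R)
    (j : Fin m) :
    (a * WittVector.truncate m (teichmuller p r)).coeff j = a.coeff j * r ^ p ^ (j : ℕ) := by
  obtain ⟨x, rfl⟩ := WittVector.truncate_surjective p m R a
  rw [← map_mul, WittVector.coeff_truncate, WittVector.coeff_truncate, mul_teichmuller_coeff]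

theorem pow_split {R : Type*} [CommRing R] (m j : ℕ) (hj : j < m) (x d : R) :
    (x * d ^ p ^ j) ^ p ^ (m - 1 - j) = x ^ p ^ (m - 1 - j) * d ^ p ^ (m - 1) := by
  rw [mul_pow, ← pow_mul, ← pow_add, Nat.add_sub_cancel' (by omega : j ≤ m - 1)]

section Saturation

variable {A B : Type u} [CommRing A] [CommRing B] [Algebra A B] [CharP B p]

/-- Elements of the perfect closure with some `p`-power in the image of `A`. -/
def sat (A : Type u) {B : Type u} [CommRing A] [CommRing B] [Algebra A B] (p : ℕ) [Fact p.Prime] [CharP B p] :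
    Subring (PerfectClosure B p) where
  carrier := {z | ∃ (k : ℕ) (a : A), z ^ p ^ k = PerfectClosure.of B p (algebraMap A B a)}
  zero_mem' := ⟨0, 0, by simp⟩
  one_mem' := ⟨0, 1, by simp⟩
  add_mem' := by
    rintro x y ⟨k, a, ha⟩ ⟨l, b, hb⟩
    refine ⟨k + l, a ^ p ^ l + b ^ p ^ k, ?_⟩
    haveI : ExpChar (PerfectClosure B p) p := ExpChar.prime (Fact.out : p.Prime)
    rw [add_pow_expChar_pow, map_add, map_add, map_pow, map_pow, map_pow, map_pow, ← ha, ← hb, ← pow_mul, ← pow_mul,
      ← pow_add, ← pow_add, add_comm l k]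
  mul_mem' := by
    rintro x y ⟨k, a, ha⟩ ⟨l, b, hb⟩
    refine ⟨k + l, a ^ p ^ l * b ^ p ^ k, ?_⟩
    rw [mul_pow, map_mul, map_mul, map_pow, map_pow, map_pow, map_pow, ← ha, ← hb, ← pow_mul, ← pow_mul,
      ← pow_add, ← pow_add, add_comm l k]
  neg_mem' := by
    rintro x ⟨k, a, ha⟩
    haveI : ExpChar (PerfectClosure B p) p := ExpChar.prime (Fact.out : p.Prime)
    refine ⟨k, -a, ?_⟩
    have h := add_pow_expChar_pow x (-x) p k
    rw [add_neg_cancel, zero_pow (pow_ne_zero _ (Fact.out : p.Prime).ne_zero)] at h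
    rw [eq_neg_of_add_eq_zero_right h.symm, ha, map_neg, map_neg]

theorem exists_root (c : B) (k : ℕ) :
    ∃ d : PerfectClosure B p, d ^ p ^ k = PerfectClosure.of B p c :=
  ⟨(iterateFrobeniusEquiv (PerfectClosure B p) p k).symm (PerfectClosure.of B p c),
    (iterateFrobeniusEquiv (PerfectClosure B p) p k).apply_symm_apply _⟩

/-- `p`-power roots of elements of `A` in `B` come from `A`. -/
abbrev RootClosed (A B : Type u) [CommRing A] [CommRing B] [Algebra A B] (p : ℕ) : Prop :=
  ∀ (w : B) (k : ℕ), w ^ p ^ k ∈ (algebraMap A B).range → w ∈ (algebraMap A B).range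

theorem mem_of_pow_mem_sat (h : RootClosed A B p) {w : B} {k : ℕ} {z : PerfectClosure B p}
    (hz : z ∈ sat A p) (hw : z ^ p ^ k = PerfectClosure.of B p w) : w ∈ (algebraMap A B).range := by
  obtain ⟨l, a, ha⟩ := hz
  have h1 : PerfectClosure.of B p (w ^ p ^ l) = PerfectClosure.of B p (algebraMap A B (a ^ p ^ k)) := by
    rw [map_pow, map_pow, map_pow, ← hw, ← ha, ← pow_mul, ← pow_mul, mul_comm]
  rw [PerfectClosure.of_apply, PerfectClosure.of_apply, PerfectClosure.mk_eq_iff] at h1
  obtain ⟨e, he⟩ := h1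
  simp only [zero_add, iterate_frobenius] at he
  rw [← pow_mul, ← pow_add, ← map_pow] at he
  exact h w (l + e) ⟨_, he.symm⟩

/-- The scaled Witt vector attached to a member of a filtered piece. -/
theorem exists_lift {m : ℕ} {c : B} {a : TruncatedWittVector p m B} (ha : a ∈ WittFil.fil p m (A := A) c)
    {d : PerfectClosure B p} (hd : d ^ p ^ (m - 1) = PerfectClosure.of B p c) :
    ∃ a' : WittVector p (sat A (B := B) p),
      WittVector.map (sat A (B := B) p).subtype a' =
        WittVector.map (PerfectClosure.of B p) a.out * teichmuller p d := by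
  have hmem : ∀ j, (WittVector.map (PerfectClosure.of B p) a.out * teichmuller p d).coeff j ∈ sat A p := by
    intro j
    rw [mul_teichmuller_coeff, map_coeff]
    by_cases hj : j < m
    · obtain ⟨r, hr⟩ := ha ⟨j, hj⟩
      refine ⟨m - 1 - j, r, ?_⟩
      rw [pow_split m j hj, hd, hr, map_mul, map_pow, TruncatedWittVector.coeff_out a ⟨j, hj⟩]
    · rw [show a.out.coeff j = 0 by simp [TruncatedWittVector.out, hj], map_zero, zero_mul]
      exact zero_mem _
  exact ⟨WittVector.mk p fun j => ⟨_, hmem j⟩, by ext j; simp [map_coeff]⟩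

theorem mem_fil_of_lift (h : RootClosed A B p) {m : ℕ} {c : B} {x : WittVector p B}
    {d : PerfectClosure B p} (hd : d ^ p ^ (m - 1) = PerfectClosure.of B p c)
    {x' : WittVector p (sat A (B := B) p)}
    (hx : WittVector.map (sat A (B := B) p).subtype x' = WittVector.map (PerfectClosure.of B p) x * teichmuller p d) :
    WittVector.truncate m x ∈ WittFil.fil p m (A := A) c := by
  intro j
  rw [WittVector.coeff_truncate]
  have h1 := congrArg (fun y => WittVector.coeff y (j : ℕ)) hx
  simp only [map_coeff, mul_teichmuller_coeff] at h1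
  refine mem_of_pow_mem_sat h (k := m - 1 - j) (x'.coeff j).2 ?_
  rw [show ((x'.coeff j : sat A (B := B) p) : PerfectClosure B p) = _ from h1, pow_split m j j.2, hd, map_mul, map_pow]

theorem sub_mem (h : RootClosed A B p) {m : ℕ} {c : B} {a b : TruncatedWittVector p m B}
    (ha : a ∈ WittFil.fil p m (A := A) c) (hb : b ∈ WittFil.fil p m (A := A) c) :
    a - b ∈ WittFil.fil p m (A := A) c := by
  obtain ⟨d, hd⟩ := exists_root c (m - 1)
  obtain ⟨a', ha'⟩ := exists_lift ha hd
  obtain ⟨b', hb'⟩ := exists_lift hb hd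
  have := mem_fil_of_lift h hd (x := a.out - b.out) (x' := a' - b') (by
    rw [map_sub, map_sub, ha', hb', sub_mul])
  have e : ∀ a : TruncatedWittVector p m B, WittVector.truncate m a.out = a :=
    fun a => TruncatedWittVector.truncateFun_out a
  rwa [map_sub, e, e] at this

theorem zero_mem_fil {m : ℕ} (c : B) :
    (0 : TruncatedWittVector p m B) ∈ WittFil.fil p m (A := A) c := fun j => by
  rw [TruncatedWittVector.coeff_zero, zero_pow (pow_ne_zero _ (Fact.out : p.Prime).ne_zero), zero_mul]
  exact zero_mem _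

theorem add_mem (h : RootClosed A B p) {m : ℕ} {c : B} {a b : TruncatedWittVector p m B}
    (ha : a ∈ WittFil.fil p m (A := A) c) (hb : b ∈ WittFil.fil p m (A := A) c) :
    a + b ∈ WittFil.fil p m (A := A) c := by
  have := sub_mem h ha (sub_mem h (zero_mem_fil c) hb)
  simpa using this

theorem mul_mem (h : RootClosed A B p) {m : ℕ} {c c' : B} {a b : TruncatedWittVector p m B}
    (ha : a ∈ WittFil.fil p m (A := A) c) (hb : b ∈ WittFil.fil p m (A := A) c') :
    a * b ∈ WittFil.fil p m (A := A) (c * c') := by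
  obtain ⟨d, hd⟩ := exists_root c (m - 1)
  obtain ⟨d', hd'⟩ := exists_root c' (m - 1)
  obtain ⟨a', ha'⟩ := exists_lift ha hd
  obtain ⟨b', hb'⟩ := exists_lift hb hd'
  have := mem_fil_of_lift h (d := d * d') (by rw [mul_pow, hd, hd', map_mul]) (x := a.out * b.out)
    (x' := a' * b') (by rw [map_mul, map_mul, ha', hb', map_mul, mul_mul_mul_comm])
  have e : ∀ a : TruncatedWittVector p m B, WittVector.truncate m a.out = a :=
    fun a => TruncatedWittVector.truncateFun_out a
  rwa [map_mul, e, e] at this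

end Saturation

section Monomial

variable {A : Type u} {B : Type v} [CommRing A] [IsDomain A] [CommRing B] [Algebra A B] {r : ℕ}

theorem zmon_natCast {x : Fin r → A} {u : Fin r → Bˣ} (hu : ∀ i, (u i : B) = algebraMap A B (x i))
    (e : Fin r → ℕ) : WittFil.zmon u (fun i => (e i : ℤ)) = algebraMap A B (∏ i, x i ^ e i) := by
  simp [WittFil.zmon, Units.coe_prod, hu]

theorem zmon_add (u : Fin r → Bˣ) (n n' : Fin r → ℤ) :
    WittFil.zmon u (n + n') = WittFil.zmon u n * WittFil.zmon u n' := by
  simp [WittFil.zmon, zpow_add, Finset.prod_mul_distrib]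

theorem zmon_mul_nat (u : Fin r → Bˣ) (n : Fin r → ℤ) (k : ℕ) :
    WittFil.zmon u (fun i => n i * k) = WittFil.zmon u n ^ k := by
  rw [WittFil.zmon, WittFil.zmon, ← Units.val_pow_eq_pow_val, ← Finset.prod_pow]
  simp [zpow_mul]

variable {x : Fin r → A} (hx : ∀ i, Prime (x i)) (hxa : ∀ i j, Associated (x i) (x j) → i = j)
  [IsLocalization.Away (∏ i, x i) B] {u : Fin r → Bˣ} (hu : ∀ i, (u i : B) = algebraMap A B (x i))

include hx hxa hu

/-- The basic integrality criterion. -/
theorem mem_of_pow_mul_mem {P : ℕ} {w : B} {ρ : Fin r → ℕ} (hρ : ∀ i, ρ i < P)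
    (h : w ^ P * algebraMap A B (∏ i, x i ^ ρ i) ∈ (algebraMap A B).range) (hP : 0 < P) :
    w ∈ (algebraMap A B).range := by
  have hne : ∏ i, x i ≠ 0 := Finset.prod_ne_zero_iff.2 fun i _ => (hx i).ne_zero
  have hinj : Function.Injective (algebraMap A B) :=
    IsLocalization.injective B (powers_le_nonZeroDivisors_of_noZeroDivisors hne)
  obtain ⟨b, hb⟩ := h
  suffices key : ∀ N : ℕ, ∀ e : Fin r → ℕ, ∑ i, e i = N → ∀ a : A,
      w * algebraMap A B (∏ i, x i ^ e i) = algebraMap A B a → w ∈ (algebraMap A B).range by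
    obtain ⟨k, a, hk⟩ := IsLocalization.Away.surj (∏ i, x i) w
    exact key _ (fun _ => k) rfl a (by rw [Finset.prod_pow, map_pow]; exact hk)
  intro N
  induction N with
  | zero =>
    intro e he a ha
    rw [Finset.sum_eq_zero_iff] at he
    refine ⟨a, ?_⟩
    rw [← ha, Finset.prod_eq_one fun i _ => by rw [he i (Finset.mem_univ i), pow_zero], map_one, mul_one]
  | succ N ih =>
    intro e he a ha
    obtain ⟨i, hi⟩ : ∃ i, e i ≠ 0 := by
      by_contra h
      push Not at h
      simp [h] at he
    have heq : a ^ P * ∏ j, x j ^ ρ j = b * (∏ j, x j ^ e j) ^ P := hinj (by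
      rw [map_mul, map_mul, map_pow, map_pow, ← ha, hb, mul_pow]; ring)
    rw [← Finset.mul_prod_erase _ (fun j => x j ^ e j) (Finset.mem_univ i), mul_pow, ← pow_mul,
      ← Finset.mul_prod_erase _ (fun j => x j ^ ρ j) (Finset.mem_univ i)] at heq
    have hdvd : x i ∣ a := by
      refine (hx i).dvd_of_dvd_pow (n := P) ?_
      have hlt : ρ i + 1 ≤ e i * P := (hρ i).trans_le (Nat.le_mul_of_pos_left P (Nat.pos_of_ne_zero hi))
      have h1 : x i ^ ρ i * x i ∣ x i ^ ρ i * (a ^ P * ∏ j ∈ Finset.univ.erase i, x j ^ ρ j) := by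
        rw [← pow_succ, show x i ^ ρ i * (a ^ P * ∏ j ∈ Finset.univ.erase i, x j ^ ρ j) =
          a ^ P * (x i ^ ρ i * ∏ j ∈ Finset.univ.erase i, x j ^ ρ j) by ring, heq]
        exact ((pow_dvd_pow _ hlt).mul_right _).mul_left _
      rcases (hx i).dvd_or_dvd ((mul_dvd_mul_iff_left (pow_ne_zero _ (hx i).ne_zero)).1 h1) with h2 | h2
      · exact h2
      · exfalso
        obtain ⟨j, hj, hj2⟩ := (hx i).exists_mem_finset_dvd h2
        exact Finset.ne_of_mem_erase hj
          (hxa i j ((hx i).associated_of_dvd (hx j) ((hx i).dvd_of_dvd_pow hj2))).symm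
    obtain ⟨a', rfl⟩ := hdvd
    refine ih (Function.update e i (e i - 1)) ?_ a' ?_
    · rw [Finset.sum_update_of_mem (Finset.mem_univ i), Finset.sdiff_singleton_eq_erase]
      have := Finset.add_sum_erase Finset.univ e (Finset.mem_univ i)
      omega
    · have hprod : (∏ j, x j ^ e j) = x i * ∏ j, x j ^ Function.update e i (e i - 1) j := by
        rw [← Finset.mul_prod_erase _ _ (Finset.mem_univ i),
          ← Finset.mul_prod_erase _ (fun j => x j ^ Function.update e i (e i - 1) j) (Finset.mem_univ i),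
          Function.update_self, ← mul_assoc, ← pow_succ', Nat.sub_add_cancel (Nat.pos_of_ne_zero hi)]
        congr 1
        exact Finset.prod_congr rfl fun j hj => by rw [Function.update_of_ne (Finset.ne_of_mem_erase hj)]
      rw [hprod, map_mul, map_mul, mul_left_comm, ← hu i] at ha
      exact (u i).isUnit.mul_left_cancel ha

theorem rootClosed_pow {P : ℕ} (hP : 0 < P) (w : B) (h : w ^ P ∈ (algebraMap A B).range) :
    w ∈ (algebraMap A B).range :=
  mem_of_pow_mul_mem hx hxa hu (ρ := fun _ => 0) (fun _ => hP) (by simpa using h) hP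

theorem pow_mul_zmon_mem_iff {P : ℕ} (hP : 0 < P) (w : B) (n : Fin r → ℤ) :
    w ^ P * WittFil.zmon u n ∈ (algebraMap A B).range ↔
      w * WittFil.zmon u (fun i => n i / (P : ℤ)) ∈ (algebraMap A B).range := by
  have hsplit : WittFil.zmon u n = WittFil.zmon u (fun i => n i / (P : ℤ)) ^ P *
      algebraMap A B (∏ i, x i ^ (n i % (P : ℤ)).toNat) := by
    rw [← zmon_mul_nat, ← zmon_natCast hu, ← zmon_add]
    congr 1
    funext i
    simp only [Pi.add_apply, Int.toNat_of_nonneg (Int.emod_nonneg _ (by omega : (P : ℤ) ≠ 0))]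
    exact (Int.ediv_mul_add_emod (n i) P).symm
  rw [hsplit, ← mul_assoc, ← mul_pow]
  refine ⟨fun h => mem_of_pow_mul_mem hx hxa hu (fun i => ?_) h hP, fun h => ?_⟩
  · have := Int.emod_lt_of_pos (n i) (by omega : (0 : ℤ) < P)
    have := Int.emod_nonneg (n i) (by omega : (P : ℤ) ≠ 0)
    omega
  · exact Subring.mul_mem _ (Subring.pow_mem _ h P) ⟨_, rfl⟩

theorem charP_of_away [CharP A p] : CharP B p :=
  charP_of_injective_algebraMap (IsLocalization.injective B (powers_le_nonZeroDivisors_of_noZeroDivisors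
    (Finset.prod_ne_zero_iff.2 fun i _ => (hx i).ne_zero : ∏ i, x i ≠ 0))) p

end Monomial

end Groth.Agent.WittFilLib
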